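import Mathlib
import Cfsg.Agent.Lib.J2Type.Classes
import Cfsg.Agent.Lib.J2Type.ElemSylow

/-!
Odd subgroups of the centralizer of the central involution whose images in the quotient by the core
are normalised by centralizers in the extraspecial group.
-/

set_option autoImplicit false
set_option linter.style.haveILetI false
set_option linter.unusedSectionVars false

namespace Cfsg.Agent.J2Type

open Subgroup
open Cfsg.Agent.J2Uniq (mul inv cj)

universe u

variable {G : Type u} [Group G] [Finite G]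

/-- The image of the extraspecial group in the centralizer modulo its core. -/
def qImage (ρ : ℕ → G) : Subgroup (↥(centralizer ({ρ 16} : Set G)) ⧸ Cfsg.oddCore ↥(centralizer ({ρ 16} : Set G))) :=
  ((sub ρ qL).subgroupOf (centralizer ({ρ 16} : Set G))).map (QuotientGroup.mk' _)

/-- The hypothesis that the extraspecial group is normal modulo the core. -/
abbrev QNorm (ρ : ℕ → G) : Prop :=
  (((sub ρ qL).subgroupOf (centralizer ({ρ 16} : Set G))).map
    (QuotientGroup.mk' (Cfsg.oddCore ↥(centralizer ({ρ 16} : Set G))))).Normal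

theorem mk_eq_one_iff {z : G} (c : ↥(centralizer ({z} : Set G))) :
    QuotientGroup.mk' (Cfsg.oddCore ↥(centralizer ({z} : Set G))) c = 1 ↔ (c : G) ∈ Loc.core z := by
  rw [QuotientGroup.mk'_apply, QuotientGroup.eq_one_iff]
  exact ⟨fun h => ⟨c, h, rfl⟩, fun ⟨d, hd, e⟩ => Subtype.ext e ▸ hd⟩

namespace Loc

variable {Y : Type u} [Group Y] [Finite Y]

/-- Conjugation carries cores to cores. -/
theorem core_map_conj {a g x : Y} (hx : x ∈ core a) : g * x * g⁻¹ ∈ core (g * a * g⁻¹) := by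
  have hle : (core a).map (MulAut.conj g).toMonoidHom ≤ core (g * a * g⁻¹) := by
    refine le_core ?_ ?_ ?_
    · rintro _ ⟨y, hy, rfl⟩
      refine mem_centralizer_singleton_iff.2 ?_
      show g * y * g⁻¹ * (g * a * g⁻¹) = g * a * g⁻¹ * (g * y * g⁻¹)
      calc g * y * g⁻¹ * (g * a * g⁻¹) = g * (y * a) * g⁻¹ := by group
        _ = g * (a * y) * g⁻¹ := by rw [mem_centralizer_singleton_iff.1 (core_le a hy)]
        _ = _ := by group
    · rw [card_map_of_injective (MulAut.conj g).injective]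
      exact core_odd a
    · rintro c hc _ ⟨y, hy, rfl⟩
      refine ⟨g⁻¹ * c * g * y * (g⁻¹ * c * g)⁻¹, core_conj_mem ?_ hy, ?_⟩
      · calc g⁻¹ * c * g * a = g⁻¹ * (c * (g * a * g⁻¹)) * g := by group
          _ = g⁻¹ * (g * a * g⁻¹ * c) * g := by rw [hc]
          _ = _ := by group
      · show g * (g⁻¹ * c * g * y * (g⁻¹ * c * g)⁻¹) * g⁻¹ = c * (g * y * g⁻¹) * c⁻¹
        group
  exact hle ⟨x, hx, rfl⟩

end Loc

namespace Syl

variable {S : Sylow 2 G} {ρ : ℕ → G} (F : Syl (S : Subgroup G) ρ)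

include F

theorem qImage_facts (hN : QNorm ρ) :
    IsPGroup 2 (qImage ρ) ∧ (∀ c, c ∈ centralizer (qImage ρ : Set _) → c ∈ qImage ρ) ∧
      (∀ q ∈ qImage ρ, ∀ c, c * (q * q) = q * q * c) ∧ Nat.card (qImage ρ) = 32 := by
  set f := QuotientGroup.mk' (Cfsg.oddCore ↥(centralizer ({ρ 16} : Set G))) with hf
  obtain ⟨S₂, σ, F₂, -, hzc, hsub⟩ := F.exists_image f (QuotientGroup.mk'_surjective _)
    (by rw [hf, QuotientGroup.ker_mk']; exact Cfsg.Agent.Cores.oddCore_odd)
  have hsub' : sub σ qL = qImage ρ := hsub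
  haveI : (sub σ qL).Normal := hsub ▸ hN
  refine ⟨hsub' ▸ IsPGroup.of_card (n := 5) (by rw [F₂.card_Q]; norm_num),
    fun c hc => hsub' ▸ F₂.selfc_Q (Cfsg.Agent.Cores.pPrimeCore_quotient_self 2) hzc (hsub'.symm ▸ hc),
    fun q hq c => ?_, hsub' ▸ F₂.card_Q⟩
  rw [← hsub'] at hq
  obtain ⟨a, ha, rfl⟩ := F₂.mem_Q.1 hq
  have has := (qL_facts.1 a ha).1
  rw [← F₂.mul_eq a has a has]
  rcases qL_sq a ha with e | e
  · rw [e, F₂.zero]; simp
  · rw [e]; exact (hzc c).symm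

theorem mem_core_z {t : G} (ht : t ∈ Loc.core (ρ 16)) : t * ρ 16 = ρ 16 * t :=
  mem_centralizer_singleton_iff.1 (Loc.core_le _ ht)

/-- An odd subgroup of the centralizer of `z`, centralizing `t` and normalised modulo the core by the
elements of the extraspecial group commuting with `t` modulo the core, lies in the core. -/
theorem le_core_of_normalized (hN : QNorm ρ) {D : Subgroup G} (hD : ∀ d ∈ D, d * ρ 16 = ρ 16 * d)
    (hodd : Odd (Nat.card D)) {t : G} (htz : t * ρ 16 = ρ 16 * t) (ht : t * t = 1)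
    (hDt : ∀ d ∈ D, d * t = t * d)
    (hnorm : ∀ q ∈ sub ρ qL, q * t * q⁻¹ * t ∈ Loc.core (ρ 16) →
      ∃ c : G, c * ρ 16 = ρ 16 * c ∧ c⁻¹ * q ∈ Loc.core (ρ 16) ∧ ∀ d ∈ D, c * d * c⁻¹ ∈ D) :
    D ≤ Loc.core (ρ 16) := by
  classical
  haveI : Fact (Nat.Prime 2) := ⟨Nat.prime_two⟩
  obtain ⟨hQp, hself, hsq, -⟩ := F.qImage_facts hN
  haveI hQn : (qImage ρ).Normal := hN
  set f := QuotientGroup.mk' (Cfsg.oddCore ↥(centralizer ({ρ 16} : Set G))) with hf
  intro d hd
  set dC : ↥(centralizer ({ρ 16} : Set G)) := ⟨d, mem_centralizer_singleton_iff.2 (hD d hd)⟩ with hdC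
  set tC : ↥(centralizer ({ρ 16} : Set G)) := ⟨t, mem_centralizer_singleton_iff.2 htz⟩ with htC
  refine (mk_eq_one_iff dC).1 ?_
  show f dC = 1
  have hdo : Odd (orderOf (f dC)) := by
    refine Odd.of_dvd_nat ?_ (orderOf_map_dvd f dC)
    rw [← Subgroup.orderOf_coe]
    exact Loc.odd_orderOf hodd hd
  have htt : f tC * f tC = 1 := by rw [← map_mul, show tC * tC = 1 from Subtype.ext ht, map_one]
  have hdt : f dC * f tC = f tC * f dC := by
    rw [← map_mul, ← map_mul]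
    exact congrArg f (Subtype.ext (hDt d hd))
  have hfix : ∀ q ∈ qImage ρ, q * f tC = f tC * q → f dC * q = q * f dC := by
    intro q hq hqt
    obtain ⟨qC, hqQ, rfl⟩ := hq
    have hqz : (qC : G) * ρ 16 = ρ 16 * qC := mem_centralizer_singleton_iff.1 qC.2
    have h1 : f (qC * tC * qC⁻¹ * tC) = 1 := by
      rw [map_mul, map_mul, map_mul, map_inv, hqt, mul_inv_cancel_right, htt]
    obtain ⟨c, hcz, hcq, hcn⟩ := hnorm qC (mem_subgroupOf.1 hqQ) ((mk_eq_one_iff _).1 h1)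
    set cC : ↥(centralizer ({ρ 16} : Set G)) := ⟨c, mem_centralizer_singleton_iff.2 hcz⟩ with hcC
    have hfc : f cC = f qC := by
      rw [← inv_mul_eq_one, ← map_inv, ← map_mul]
      exact (mk_eq_one_iff (cC⁻¹ * qC)).2 hcq
    set e := f dC * f qC * (f dC)⁻¹ * (f qC)⁻¹ with he
    have heQ : e ∈ qImage ρ :=
      mul_mem (hQn.conj_mem _ ⟨qC, hqQ, rfl⟩ _) (inv_mem ⟨qC, hqQ, rfl⟩)
    have heD : e ∈ (D.subgroupOf (centralizer ({ρ 16} : Set G))).map f := by
      refine ⟨dC * (cC * dC⁻¹ * cC⁻¹), mem_subgroupOf.2 (D.mul_mem hd (hcn _ (D.inv_mem hd))), ?_⟩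
      rw [map_mul, map_mul, map_mul, map_inv, map_inv, hfc, he]
      group
    have ho : Odd (orderOf e) := by
      refine Loc.odd_orderOf (Odd.of_dvd_nat ?_ (card_map_dvd _ _)) heD
      rwa [Nat.card_congr (subgroupOfEquivOfLe fun x hx => mem_centralizer_singleton_iff.2 (hD x hx)).toEquiv]
    have he1 := Loc.eq_one_of_two_odd hQp heQ ho
    rw [he, mul_inv_eq_one, mul_inv_eq_iff_eq_mul] at he1
    exact he1
  have step : ∀ q ∈ qImage ρ,
      f dC * (q * f tC * q⁻¹ * f tC) = q * f tC * q⁻¹ * f tC * f dC → f dC * q = q * f dC := by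
    intro q hq hw
    set s := q⁻¹ * (f dC * q * (f dC)⁻¹) with hs
    have hsQ : s ∈ qImage ρ := mul_mem (inv_mem hq) (hQn.conj_mem q hq _)
    have h1 : f dC * (q * f tC * q⁻¹) * (f dC)⁻¹ = q * f tC * q⁻¹ := by
      have h2 : q * f tC * q⁻¹ = q * f tC * q⁻¹ * f tC * f tC := by rw [mul_assoc _ (f tC) (f tC), htt, mul_one]
      rw [h2, ← mul_assoc (f dC), hw, mul_assoc _ (f dC) (f tC), hdt]
      group
    have hst : s * f tC = f tC * s := by
      have h3 : f dC * q * (f dC)⁻¹ * f tC * (f dC * q * (f dC)⁻¹)⁻¹ = q * f tC * q⁻¹ := by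
        rw [← h1]
        calc f dC * q * (f dC)⁻¹ * f tC * (f dC * q * (f dC)⁻¹)⁻¹
            = f dC * q * ((f dC)⁻¹ * (f tC * f dC)) * q⁻¹ * (f dC)⁻¹ := by group
          _ = f dC * q * ((f dC)⁻¹ * (f dC * f tC)) * q⁻¹ * (f dC)⁻¹ := by rw [hdt]
          _ = _ := by group
      have h4 : s * f tC * s⁻¹ = f tC := by
        rw [show s * f tC * s⁻¹ = q⁻¹ * (f dC * q * (f dC)⁻¹ * f tC * (f dC * q * (f dC)⁻¹)⁻¹) * q by
          rw [hs]; group, h3]
        group
      exact mul_inv_eq_iff_eq_mul.1 h4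
    have hconj : f dC * s * (f dC)⁻¹ = s := mul_inv_eq_iff_eq_mul.2 (hfix s hsQ hst)
    have hpow : ∀ n : ℕ, (f dC) ^ n * q * ((f dC) ^ n)⁻¹ = q * s ^ n := by
      intro n
      induction n with
      | zero => simp
      | succ n ih =>
        rw [pow_succ' (f dC), show f dC * (f dC) ^ n * q * (f dC * (f dC) ^ n)⁻¹ =
          f dC * ((f dC) ^ n * q * ((f dC) ^ n)⁻¹) * (f dC)⁻¹ by group, ih,
          show f dC * (q * s ^ n) * (f dC)⁻¹ = f dC * q * (f dC)⁻¹ * (f dC * s ^ n * (f dC)⁻¹) by group,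
          ← conj_pow, hconj, pow_succ', ← mul_assoc q s, hs, mul_inv_cancel_left]
    have h1s := hpow (orderOf (f dC))
    rw [pow_orderOf_eq_one, one_mul, inv_one, mul_one] at h1s
    have hs1 : s = 1 := Loc.eq_one_of_two_odd hQp hsQ
      (hdo.of_dvd_nat (orderOf_dvd_of_pow_eq_one (mul_eq_left.1 h1s.symm)))
    rw [hs, inv_mul_eq_one] at hs1
    exact (mul_inv_eq_iff_eq_mul.1 hs1.symm)
  have hall : ∀ q ∈ qImage ρ, f dC * q = q * f dC := by
    intro q hq
    set w := q * f tC * q⁻¹ * f tC with hw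
    have hwQ : w ∈ qImage ρ := by
      rw [hw, show q * f tC * q⁻¹ * f tC = q * (f tC * q⁻¹ * (f tC)⁻¹) * (f tC * f tC) by group, htt, mul_one]
      exact mul_mem hq (hQn.conj_mem _ (inv_mem hq) _)
    refine step q hq (step w hwQ ?_)
    have htw : f tC * w * f tC = w⁻¹ := by
      rw [hw, mul_inv_rev, mul_inv_rev, mul_inv_rev, inv_inv, inv_eq_of_mul_eq_one_right htt]
      calc f tC * (q * f tC * q⁻¹ * f tC) * f tC = f tC * (q * f tC * q⁻¹) * (f tC * f tC) := by group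
        _ = _ := by rw [htt]; group
    have hti : f tC * w⁻¹ * f tC = w := by
      rw [← htw, show f tC * (f tC * w * f tC) * f tC = f tC * f tC * w * (f tC * f tC) by group, htt, one_mul,
        mul_one]
    have e : w * f tC * w⁻¹ * f tC = w * w := by
      rw [show w * f tC * w⁻¹ * f tC = w * (f tC * w⁻¹ * f tC) by group, hti]
    rw [e]
    exact hfix (w * w) (mul_mem hwQ hwQ) (hsq w hwQ (f tC)).symm
  exact Loc.eq_one_of_two_odd hQp (hself _ (mem_centralizer_iff.2 fun q hq => (hall q hq).symm)) hdo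

/-- An odd subgroup normalised by an involution which lies in the extraspecial group modulo the core lies in
the core when the fixed points of the involution do. -/
theorem le_core_of_inverted (hN : QNorm ρ) {D : Subgroup G} (hD : ∀ d ∈ D, d * ρ 16 = ρ 16 * d)
    (hodd : Odd (Nat.card D)) {q : G} (hq : q ∈ sub ρ qL) (hq2 : q * q = 1)
    (hqD : ∀ d ∈ D, q * d * q⁻¹ ∈ D) (hfix : ∀ d ∈ D, d * q = q * d → d ∈ Loc.core (ρ 16)) :
    D ≤ Loc.core (ρ 16) := by
  obtain ⟨hQp, -, -, -⟩ := F.qImage_facts hN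
  haveI hQn : (qImage ρ).Normal := hN
  have hqz : q * ρ 16 = ρ 16 * q := by
    obtain ⟨a, ha, rfl⟩ := F.mem_Q.1 hq
    exact F.z_comm (F.mem a (qL_facts.1 a ha).1)
  intro d hd
  set e := q * d * q⁻¹ * d⁻¹ with he
  have heD : e ∈ D := D.mul_mem (hqD d hd) (D.inv_mem hd)
  set f := QuotientGroup.mk' (Cfsg.oddCore ↥(centralizer ({ρ 16} : Set G))) with hf
  set qC : ↥(centralizer ({ρ 16} : Set G)) := ⟨q, mem_centralizer_singleton_iff.2 hqz⟩ with hqC
  set dC : ↥(centralizer ({ρ 16} : Set G)) := ⟨d, mem_centralizer_singleton_iff.2 (hD d hd)⟩ with hdC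
  have heO : e ∈ Loc.core (ρ 16) := by
    refine (mk_eq_one_iff (qC * dC * qC⁻¹ * dC⁻¹)).1 ?_
    have hqQ : f qC ∈ qImage ρ := ⟨qC, hq, rfl⟩
    refine Loc.eq_one_of_two_odd hQp ?_ (Odd.of_dvd_nat ?_ (orderOf_map_dvd f _))
    · show f (qC * dC * qC⁻¹ * dC⁻¹) ∈ qImage ρ
      rw [map_mul, map_mul, map_mul, map_inv, map_inv,
        show f qC * f dC * (f qC)⁻¹ * (f dC)⁻¹ = f qC * (f dC * (f qC)⁻¹ * (f dC)⁻¹) by group]
      exact mul_mem hqQ (hQn.conj_mem _ (inv_mem hqQ) _)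
    · rw [← Subgroup.orderOf_coe]
      exact Loc.odd_orderOf hodd heD
  have hinv : q * e * q⁻¹ = e⁻¹ := by
    have hqi : q⁻¹ = q := inv_eq_of_mul_eq_one_right hq2
    rw [he, mul_inv_rev, mul_inv_rev, mul_inv_rev, inv_inv, inv_inv, hqi]
    calc q * (q * d * q * d⁻¹) * q = (q * q) * d * q * d⁻¹ * q := by group
      _ = _ := by rw [hq2]; group
  obtain ⟨j, hj⟩ := Loc.odd_orderOf hodd heD
  set g := e ^ (j + 1) with hg
  have hgg : g * g = e := by
    rw [hg, ← pow_add, show j + 1 + (j + 1) = orderOf e + 1 by omega, pow_succ, pow_orderOf_eq_one, one_mul]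
  have hgO : g ∈ Loc.core (ρ 16) := pow_mem heO _
  have hqg : q * g * q⁻¹ = g⁻¹ := by
    rw [hg, ← conj_pow, hinv, inv_pow]
  have hfd : g * d * q = q * (g * d) := by
    have h1 : q * (g * d) * q⁻¹ = g * d := by
      rw [show q * (g * d) * q⁻¹ = (q * g * q⁻¹) * (q * d * q⁻¹ * d⁻¹) * d by group, hqg, ← he, ← hgg,
        inv_mul_cancel_left]
    exact (mul_inv_eq_iff_eq_mul.1 h1).symm
  have h1 := hfix _ (D.mul_mem (D.pow_mem heD _) hd) hfd
  have h2 := (Loc.core (ρ 16)).mul_mem ((Loc.core (ρ 16)).inv_mem hgO) h1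
  rwa [← hg, inv_mul_cancel_left] at h2

end Syl

end Cfsg.Agent.J2Type
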