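import Mathlib
import Cfsg.Agent.S0205
import Cfsg.Agent.Lib.J2Type.OneClass.Basic
import Cfsg.Agent.Lib.Coprime.Generation

/-!
One class of involutions: the signalizer functor of cores, and the normalizer of its completion.
-/

set_option autoImplicit false
set_option linter.style.haveILetI false
set_option linter.unusedSectionVars false

namespace Cfsg.Agent.J2Type

open Subgroup
open Cfsg.Agent.J2Uniq (mul inv cj)

universe u

variable {G : Type u} [Group G] [Finite G]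

/-- Every involution is conjugate to the central one. -/
abbrev OneClassAt (ρ : ℕ → G) : Prop := ∀ v : G, orderOf v = 2 → IsConj v (ρ 16)

/-- The join of the cores over the central four group. -/
def wFour (ρ : ℕ → G) : Subgroup G := Loc.core (ρ 16) ⊔ Loc.core (ρ 15) ⊔ Loc.core (ρ 31)

theorem four_codes : (∀ a ∈ zL, a ∈ qL ∧ a ∈ sL ∧ inv a ∈ zL ∧ mul a a = 0 ∧
    ∀ b ∈ zL, mul a b ∈ zL ∧ mul a b = mul b a) ∧ 0 ∈ zL ∧ 15 ∈ zL ∧ 16 ∈ zL ∧ 31 ∈ zL ∧ zL.Nodup ∧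
    mul 16 15 = 31 ∧ mul 16 31 = 15 ∧ ∀ a ∈ zL, a ∈ bL := by
  decide +kernel

theorem conj_comm {g a b : G} (h : a * b = b * a) : g * a * g⁻¹ * (g * b * g⁻¹) = g * b * g⁻¹ * (g * a * g⁻¹) := by
  calc g * a * g⁻¹ * (g * b * g⁻¹) = g * (a * b) * g⁻¹ := by group
    _ = g * (b * a) * g⁻¹ := by rw [h]
    _ = _ := by group

theorem comm_of_conj {g a b : G} (h : g * a * g⁻¹ * (g * b * g⁻¹) = g * b * g⁻¹ * (g * a * g⁻¹)) : a * b = b * a := by
  have := conj_comm (g := g⁻¹) h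
  simpa [mul_assoc] using this

namespace Syl

variable {S : Sylow 2 G} {ρ : ℕ → G} (F : Syl (S : Subgroup G) ρ) (hN : QNorm ρ) (hone : OneClassAt ρ)

include F hN hone

/-- The cores of commuting involutions are balanced. -/
theorem balanced {a b : G} (ha : orderOf a = 2) (hb : orderOf b = 2) (hab : a * b = b * a) :
    Loc.core a ⊓ centralizer ({b} : Set G) ≤ Loc.core b := by
  obtain ⟨g, hg⟩ := isConj_iff.1 (hone b hb)
  set t := g * a * g⁻¹ with ht
  have ht2 : orderOf t = 2 := by rw [ht, Involutions.Basic.orderOf_conj, ha]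
  have htz : t * ρ 16 = ρ 16 * t := by rw [← hg]; exact conj_comm hab
  have htt := Involutions.Basic.inv_sq_one ht2
  have hle : Loc.core t ⊓ centralizer ({ρ 16} : Set G) ≤ Loc.core (ρ 16) := by
    refine F.le_core_of_normalized hN (fun d hd => mem_centralizer_singleton_iff.1 hd.2)
      ((Loc.core_odd t).of_dvd_nat (card_dvd_of_le inf_le_left)) htz htt
      (fun d hd => mem_centralizer_singleton_iff.1 (Loc.core_le t hd.1)) fun q hq hqt => ?_
    obtain ⟨i, hi, hiq⟩ := F.mem_Q.1 hq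
    have hqz : q * ρ 16 = ρ 16 * q := hiq ▸ F.z_comm (F.mem i (qL_facts.1 i hi).1)
    set y := q * t * q⁻¹ with hy
    have hy2 : orderOf y = 2 := by rw [hy, Involutions.Basic.orderOf_conj, ht2]
    obtain ⟨d, hd, hde⟩ := Involutions.Basic.exists_conj_of_odd hy2 ht2 (Loc.odd_orderOf (Loc.core_odd _) hqt)
    have hdO : d ∈ Loc.core (ρ 16) := zpowers_le.2 hqt hd
    have hdz : d * ρ 16 = ρ 16 * d := mem_centralizer_singleton_iff.1 (Loc.core_le _ hdO)
    refine ⟨d * q, by rw [mul_assoc, hqz, ← mul_assoc, hdz, mul_assoc], ?_, fun x hx => ?_⟩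
    · have hqi : q⁻¹ * ρ 16 = ρ 16 * q⁻¹ := by
        rw [inv_mul_eq_iff_eq_mul, ← mul_assoc, hqz, mul_inv_cancel_right]
      have := Loc.core_conj_mem hqi ((Loc.core (ρ 16)).inv_mem hdO)
      rwa [inv_inv, ← mul_inv_rev] at this
    · have hdqt : d * q * t = t * (d * q) := by
        have e : d * (q * t * q⁻¹) * d⁻¹ = t := hde
        rw [show d * (q * t * q⁻¹) * d⁻¹ = d * q * t * (d * q)⁻¹ by group] at e
        exact mul_inv_eq_iff_eq_mul.1 e
      have hdqz : d * q * ρ 16 = ρ 16 * (d * q) := by rw [mul_assoc, hqz, ← mul_assoc, hdz, mul_assoc]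
      refine ⟨Loc.core_conj_mem hdqt hx.1, mem_centralizer_singleton_iff.2 ?_⟩
      have := conj_comm (g := d * q) (mem_centralizer_singleton_iff.1 hx.2)
      rwa [show d * q * ρ 16 * (d * q)⁻¹ = ρ 16 by rw [hdqz, mul_inv_cancel_right]] at this
  intro x hx
  have hx' : g * x * g⁻¹ ∈ Loc.core (ρ 16) :=
    hle ⟨Loc.core_map_conj hx.1, mem_centralizer_singleton_iff.2 (hg ▸ conj_comm (mem_centralizer_singleton_iff.1 hx.2))⟩
  have := Loc.core_map_conj (g := g⁻¹) hx'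
  rw [← hg] at this
  simpa [mul_assoc] using this

theorem sixteen_functor (E : Subgroup G) (hE : Cfsg.IsElementaryAbelian 2 E) (hc : 8 ≤ Nat.card E) :
    Odd (Nat.card (Loc.wJoin E)) ∧ E ≤ normalizer (Loc.wJoin E : Set G) ∧
      ∀ a ∈ E, a ≠ 1 → Loc.wJoin E ⊓ centralizer ({a} : Set G) ≤ Loc.core a := by
  haveI := hE.1
  have hord : ∀ a ∈ E, a ≠ 1 → orderOf a = 2 := fun a ha h => orderOf_eq_prime (hE.2 a ha) h
  have hbal : ∀ a ∈ E, a ≠ 1 → ∀ b ∈ E, b ≠ 1 → Loc.core a ⊓ centralizer ({b} : Set G) ≤ Loc.core b :=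
    fun a ha ha1 b hb hb1 => F.balanced hN hone (hord a ha ha1) (hord b hb hb1)
      (congrArg Subtype.val (mul_comm' (⟨a, ha⟩ : E) ⟨b, hb⟩))
  have hθ : Cfsg.IsSolvableSignalizerFunctor 2 E Loc.core := by
    refine ⟨⟨fun a _ _ => Loc.core_le a, fun a _ _ h => ?_, fun a ha _ b hb x hx => ?_, hbal⟩,
      fun a _ _ => Cfsg.Agent.S0205.result (Loc.core_odd a)⟩
    · exact Nat.not_even_iff_odd.2 (Loc.core_odd a) (even_iff_two_dvd.2 h)
    · exact Loc.core_conj_mem (congrArg Subtype.val (mul_comm' (⟨b, hb⟩ : E) ⟨a, ha⟩)) hx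
  obtain ⟨-, h2, h3, h4⟩ := SolvableSignalizer.iSup_mem Nat.prime_two hE (by norm_num; exact hc) hθ
  refine ⟨Nat.not_even_iff_odd.1 fun he => h2 (even_iff_two_dvd.1 he), fun e he => ?_, h4⟩
  refine mem_normalizer_iff.2 fun x => ⟨h3 e he x, fun hx => ?_⟩
  have := h3 e⁻¹ (inv_mem he) _ hx
  rwa [show e⁻¹ * (e * x * e⁻¹) * e⁻¹⁻¹ = x by group] at this

omit hN hone in
theorem four_mem {g : G} : g ∈ sub ρ zL ↔ ∃ a ∈ zL, ρ a = g :=
  F.mem_sub four_codes.2.1 (fun a ha => (four_codes.1 a ha).2.1) (fun a ha => (four_codes.1 a ha).2.2.1)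
    fun a ha b hb => ((four_codes.1 a ha).2.2.2.2 b hb).1

omit hN hone in
theorem four_elem : Cfsg.IsElementaryAbelian 2 (sub ρ zL) := by
  refine ⟨⟨⟨fun a b => Subtype.ext ?_⟩⟩, fun a ha => ?_⟩
  · obtain ⟨i, hi, hie⟩ := F.four_mem.1 a.2
    obtain ⟨j, hj, hje⟩ := F.four_mem.1 b.2
    show (a : G) * b = b * a
    rw [← hie, ← hje]
    exact (F.comm (four_codes.1 i hi).2.1 (four_codes.1 j hj).2.1).2 ((four_codes.1 i hi).2.2.2.2 j hj).2
  · obtain ⟨i, hi, rfl⟩ := F.four_mem.1 ha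
    rw [pow_two, F.sq_one (four_codes.1 i hi).2.1]
    exact (four_codes.1 i hi).2.2.2.1

omit hN hone in
theorem four_not_cyclic : ¬ IsCyclic (sub ρ zL) := by
  intro hc
  have h4 : Nat.card (sub ρ zL) = 4 :=
    F.card_sub four_codes.2.1 (fun a ha => (four_codes.1 a ha).2.1) (fun a ha => (four_codes.1 a ha).2.2.1)
      (fun a ha b hb => ((four_codes.1 a ha).2.2.2.2 b hb).1) four_codes.2.2.2.2.2.1
  obtain ⟨g, hg⟩ := IsCyclic.exists_ofOrder_eq_natCard (α := sub ρ zL)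
  rw [← Subgroup.orderOf_coe, h4] at hg
  have := orderOf_dvd_of_pow_eq_one (F.four_elem.2 g g.2)
  rw [hg] at this
  norm_num at this

omit hN hone in
theorem four_cases {a : G} (ha : a ∈ sub ρ zL) (h1 : a ≠ 1) : a = ρ 16 ∨ a = ρ 15 ∨ a = ρ 31 := by
  obtain ⟨i, hi, rfl⟩ := F.four_mem.1 ha
  rcases zL_split i hi with rfl | rfl | rfl | rfl
  · exact absurd F.zero h1
  · exact Or.inl rfl
  · exact Or.inr (Or.inl rfl)
  · exact Or.inr (Or.inr rfl)

omit hN hone in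
theorem four_le_wFour {a : G} (ha : a ∈ sub ρ zL) (h1 : a ≠ 1) : Loc.core a ≤ wFour ρ := by
  rcases F.four_cases ha h1 with rfl | rfl | rfl
  · exact le_sup_left.trans le_sup_left
  · exact le_sup_right.trans le_sup_left
  · exact le_sup_right

omit hN hone in
theorem four_ne {a : ℕ} (ha : a ∈ zL) (h0 : a ≠ 0) : ρ a ∈ sub ρ zL ∧ ρ a ≠ 1 :=
  ⟨mem_sub_of_mem ha, fun e => h0 ((F.eq_one (four_codes.1 a ha).2.1).1 e)⟩

/-- The completion over an elementary subgroup of order 16 is the join over the central four group. -/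
theorem wJoin_eq {E : Subgroup G} (hE : Cfsg.IsElementaryAbelian 2 E) (hc : 8 ≤ Nat.card E)
    (hle : sub ρ zL ≤ E) : Loc.wJoin E = wFour ρ := by
  obtain ⟨hodd, hnorm, hfix⟩ := F.sixteen_functor hN hone E hE hc
  haveI := F.four_elem.1
  refine le_antisymm ?_ (sup_le (sup_le ?_ ?_) ?_)
  · refine (Coprime.fixedGen_eq F.four_not_cyclic (hle.trans hnorm) ?_).ge.trans
      (iSup₂_le fun a ha => (hfix a (hle ha.1) ha.2).trans (F.four_le_wFour ha.1 ha.2))
    refine Nat.Coprime.coprime_dvd_left (k := 2 ^ 2) ?_ ((Nat.coprime_two_left.2 hodd).pow_left 2)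
    rw [F.card_sub four_codes.2.1 (fun a ha => (four_codes.1 a ha).2.1) (fun a ha => (four_codes.1 a ha).2.2.1)
      (fun a ha b hb => ((four_codes.1 a ha).2.2.2.2 b hb).1) four_codes.2.2.2.2.2.1]
    exact dvd_of_eq rfl
  · obtain ⟨h1, h2⟩ := F.four_ne four_codes.2.2.2.1 (by norm_num)
    exact Loc.le_wJoin (hle h1) h2
  · obtain ⟨h1, h2⟩ := F.four_ne four_codes.2.2.1 (by norm_num)
    exact Loc.le_wJoin (hle h1) h2
  · obtain ⟨h1, h2⟩ := F.four_ne four_codes.2.2.2.2.1 (by norm_num)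
    exact Loc.le_wJoin (hle h1) h2

omit hN hone in
theorem A_elementary : Cfsg.IsElementaryAbelian 2 (subA ρ) ∧ 8 ≤ Nat.card (subA ρ) ∧ sub ρ zL ≤ subA ρ := by
  refine ⟨⟨⟨⟨fun a b => Subtype.ext (F.A_comm a.2 b.2)⟩⟩, fun a ha => ?_⟩, by rw [F.card_A]; norm_num,
    fun g hg => ?_⟩
  · rw [pow_two]; exact F.A_sq ha
  · obtain ⟨a, ha, rfl⟩ := F.four_mem.1 hg
    exact mem_sub_of_mem (zL_in_aL.1 a ha)

theorem wFour_facts : Odd (Nat.card (wFour ρ)) ∧ sub ρ zL ≤ normalizer (wFour ρ : Set G) ∧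
    ∀ a ∈ sub ρ zL, a ≠ 1 → wFour ρ ⊓ centralizer ({a} : Set G) ≤ Loc.core a := by
  obtain ⟨hE, hc, hle⟩ := F.A_elementary
  obtain ⟨h1, h2, h3⟩ := F.sixteen_functor hN hone _ hE hc
  rw [F.wJoin_eq hN hone hE hc hle] at h1 h2 h3
  exact ⟨h1, hle.trans h2, fun a ha ha1 => h3 a (hle ha) ha1⟩

omit hN hone in
/-- An element permuting the involutions of the central four group normalises the join. -/
theorem mem_of_perm {g : G} (hg : ∀ a ∈ sub ρ zL, g * a * g⁻¹ ∈ sub ρ zL) :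
    g ∈ normalizer (wFour ρ : Set G) := by
  have hle : (wFour ρ).map (MulAut.conj g).toMonoidHom ≤ wFour ρ := by
    have key : ∀ a ∈ sub ρ zL, a ≠ 1 → (Loc.core a).map (MulAut.conj g).toMonoidHom ≤ wFour ρ := by
      rintro a ha ha1 _ ⟨x, hx, rfl⟩
      exact F.four_le_wFour (hg a ha) (fun e => ha1 (conj_eq_one_iff.1 e)) (Loc.core_map_conj hx)
    obtain ⟨h1, h1'⟩ := F.four_ne four_codes.2.2.2.1 (by norm_num)
    obtain ⟨h2, h2'⟩ := F.four_ne four_codes.2.2.1 (by norm_num)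
    obtain ⟨h3, h3'⟩ := F.four_ne four_codes.2.2.2.2.1 (by norm_num)
    rw [wFour, Subgroup.map_sup, Subgroup.map_sup]
    exact sup_le (sup_le (key _ h1 h1') (key _ h2 h2')) (key _ h3 h3')
  have heq := eq_of_le_of_card_ge hle (by rw [card_map_of_injective (MulAut.conj g).injective])
  refine mem_normalizer_iff.2 fun x => ⟨fun hx => hle ⟨x, hx, rfl⟩, fun hx => ?_⟩
  rw [← heq] at hx
  obtain ⟨y, hy, e⟩ := hx
  exact (MulAut.conj g).injective e ▸ hy

omit hN hone in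
theorem S_le_norm : (S : Subgroup G) ≤ normalizer (wFour ρ : Set G) := by
  intro s hs
  obtain ⟨i, hi, rfl⟩ := F.surj s hs
  refine F.mem_of_perm fun a ha => ?_
  obtain ⟨j, hj, rfl⟩ := F.four_mem.1 ha
  rw [← F.cj_eq hi (four_codes.1 j hj).2.1]
  refine mem_sub_of_mem ?_
  have h : ∀ i ∈ sL, ∀ j ∈ zL, cj i j ∈ zL := by decide +kernel
  exact h i hi j hj

theorem normA_le {n : G} (hn : n ∈ normalizer (subA ρ : Set G)) : n ∈ normalizer (wFour ρ : Set G) := by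
  obtain ⟨hE, hc, hle⟩ := F.A_elementary
  rw [← F.wJoin_eq hN hone hE hc hle]
  refine mem_normalizer_iff.2 fun x => ⟨Loc.normalizes_wJoin (fun a ha => (mem_normalizer_iff.1 hn a).1 ha) x,
    fun hx => ?_⟩
  have := Loc.normalizes_wJoin (g := n⁻¹) (fun a ha => (mem_normalizer_iff.1 (inv_mem hn) a).1 ha) _ hx
  rwa [show n⁻¹ * (n * x * n⁻¹) * n⁻¹⁻¹ = x by group] at this

/-- Each involution of the central four group other than `z` is exchanged with `z` by an element normalising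
the join. -/
theorem exists_exchange {a : ℕ} (ha : a = 15 ∨ a = 31) :
    ∃ h ∈ normalizer (wFour ρ : Set G), h * ρ a * h⁻¹ = ρ 16 ∧ h * ρ 16 * h⁻¹ = ρ a := by
  obtain ⟨c, hc, hca⟩ : ∃ c ∈ [15, 31], mul 16 c = a := by
    rcases ha with rfl | rfl
    · exact ⟨31, by simp, four_codes.2.2.2.2.2.2.2.1⟩
    · exact ⟨15, by simp, four_codes.2.2.2.2.2.2.1⟩
  have hcz : c ∈ zL := (fusion_facts.2.1 c hc).1
  have hc0 : c ≠ 0 := by
    rcases List.mem_pair.1 hc with rfl | rfl <;> norm_num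
  have hconj : IsConj (ρ 16) (ρ c) :=
    (hone (ρ c) (F.orderOf_two (four_codes.1 c hcz).2.1 (four_codes.1 c hcz).2.2.2.1 hc0)).symm
  obtain ⟨s, h1, h2, h3⟩ := F.exists_swap hc hconj
  rw [hca] at h2 h3
  refine ⟨s, F.mem_of_perm fun b hb => ?_, h3, h2⟩
  have ha' : a ∈ zL := by rcases ha with rfl | rfl; exacts [four_codes.2.2.1, four_codes.2.2.2.2.1]
  by_cases hb1 : b = 1
  · simp [hb1]
  rcases F.four_cases hb hb1 with rfl | rfl | rfl
  · rw [h2]; exact mem_sub_of_mem ha'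
  · rcases ha with rfl | rfl
    · rw [h3]; exact mem_sub_of_mem four_codes.2.2.2.1
    · obtain rfl : c = 15 := by
        rcases List.mem_pair.1 hc with rfl | rfl
        · rfl
        · rw [four_codes.2.2.2.2.2.2.2.1] at hca; omega
      rw [h1]; exact mem_sub_of_mem four_codes.2.2.1
  · rcases ha with rfl | rfl
    · obtain rfl : c = 31 := by
        rcases List.mem_pair.1 hc with rfl | rfl
        · rw [four_codes.2.2.2.2.2.2.1] at hca; omega
        · rfl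
      rw [h1]; exact mem_sub_of_mem four_codes.2.2.2.2.1
    · rw [h3]; exact mem_sub_of_mem four_codes.2.2.2.1

/-- The centralizer of `z` normalises the join. -/
theorem centralizer_le_norm : centralizer ({ρ 16} : Set G) ≤ normalizer (wFour ρ : Set G) := by
  obtain ⟨hodd, hZn, hfix⟩ := F.wFour_facts hN hone
  set W := wFour ρ with hW
  have hSM := F.S_le_norm
  have hOW : Loc.core (ρ 16) ≤ W := le_sup_left.trans le_sup_left
  intro g hg
  have hgz : g * ρ 16 = ρ 16 * g := mem_centralizer_singleton_iff.1 hg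
  have hgz' : g * ρ 16 * g⁻¹ = ρ 16 := by rw [hgz, mul_inv_cancel_right]
  set U := (sub ρ zL).map (MulAut.conj g).toMonoidHom with hU
  haveI := F.four_elem.1
  haveI : IsMulCommutative U := Subgroup.map_isMulCommutative _ _
  have hUc : ¬ IsCyclic U := fun h =>
    F.four_not_cyclic (((sub ρ zL).equivMapOfInjective _ (MulAut.conj g).injective).symm.isCyclic.1 h)
  have hUW : U ≤ normalizer (W : Set G) := by
    rintro _ ⟨a, ha, rfl⟩
    obtain ⟨i, hi, rfl⟩ := F.four_mem.1 ha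
    have his := (four_codes.1 i hi).2.1
    obtain ⟨w, hw, e⟩ := hN.conj_mem _
      ⟨⟨ρ i, F.le_centralizer_z (F.mem i his)⟩, mem_subgroupOf.2 (mem_sub_of_mem (four_codes.1 i hi).1), rfl⟩
      (QuotientGroup.mk' _ ⟨g, hg⟩)
    obtain ⟨j, hj, hje⟩ := F.mem_Q.1 (mem_subgroupOf.1 hw)
    rw [← map_inv, ← map_mul, ← map_mul, QuotientGroup.mk'_apply, QuotientGroup.mk'_apply, QuotientGroup.eq] at e
    have e' : (w : G)⁻¹ * (g * ρ i * g⁻¹) ∈ Loc.core (ρ 16) := ⟨_, e, rfl⟩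
    have hwM : (w : G) ∈ normalizer (W : Set G) := hSM (hje ▸ F.mem j (qL_facts.1 j hj).1)
    have := mul_mem hwM (le_normalizer (hOW e'))
    rwa [mul_inv_cancel_left] at this
  set W' := W.map (MulAut.conj g).toMonoidHom with hW'
  have hle : W ≤ W' := by
    refine (Coprime.fixedGen_eq hUc hUW ?_).ge.trans (iSup₂_le ?_)
    · refine Nat.Coprime.coprime_dvd_left (k := 2 ^ 2) ?_ ((Nat.coprime_two_left.2 hodd).pow_left 2)
      rw [hU, card_map_of_injective (MulAut.conj g).injective, F.card_sub four_codes.2.1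
        (fun a ha => (four_codes.1 a ha).2.1) (fun a ha => (four_codes.1 a ha).2.2.1)
        (fun a ha b hb => ((four_codes.1 a ha).2.2.2.2 b hb).1) four_codes.2.2.2.2.2.1]
      exact dvd_of_eq rfl
    rintro _ ⟨⟨a, ha, rfl⟩, hu1⟩ w hw
    have ha1 : a ≠ 1 := fun e => hu1 (by simp [e])
    have hwu : w * (g * a * g⁻¹) = g * a * g⁻¹ * w := mem_centralizer_singleton_iff.1 hw.2
    refine ⟨g⁻¹ * w * g, ?_, by simp [MulAut.conj_apply, mul_assoc]⟩
    rcases F.four_cases ha ha1 with rfl | ha'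
    · have hwz : w ∈ Loc.core (ρ 16) :=
        hfix _ ha ha1 ⟨hw.1, mem_centralizer_singleton_iff.2 (by rwa [hgz'] at hwu)⟩
      have hgi : g⁻¹ * ρ 16 = ρ 16 * g⁻¹ := by
        rw [inv_mul_eq_iff_eq_mul, ← mul_assoc, hgz, mul_inv_cancel_right]
      have := Loc.core_conj_mem hgi hwz
      rw [inv_inv] at this
      exact hOW this
    obtain ⟨c, hc, rfl⟩ : ∃ c, (c = 15 ∨ c = 31) ∧ ρ c = a :=
      ha'.elim (fun e => ⟨15, Or.inl rfl, e.symm⟩) fun e => ⟨31, Or.inr rfl, e.symm⟩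
    obtain ⟨h, -, hha, hhz⟩ := F.exists_exchange hN hone hc
    have hcz : c ∈ zL := by rcases hc with rfl | rfl; exacts [four_codes.2.2.1, four_codes.2.2.2.2.1]
    have hcq : ρ c ∈ sub ρ qL := mem_sub_of_mem (four_codes.1 c hcz).1
    have hza : ρ 16 * ρ c = ρ c * ρ 16 := (F.z_comm (F.mem c (four_codes.1 c hcz).2.1)).symm
    -- the conjugate of the fixed points by `h * g⁻¹`
    set D := (W ⊓ centralizer ({g * ρ c * g⁻¹} : Set G)).map (MulAut.conj (h * g⁻¹)).toMonoidHom with hD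
    have hmem : ∀ {d}, d ∈ D ↔ ∃ v, v ∈ W ∧ v * (g * ρ c * g⁻¹) = g * ρ c * g⁻¹ * v ∧ h * g⁻¹ * v * (h * g⁻¹)⁻¹ = d :=
      fun {d} => ⟨fun ⟨v, hv, e⟩ => ⟨v, hv.1, mem_centralizer_singleton_iff.1 hv.2, e⟩,
        fun ⟨v, h1, h2, e⟩ => ⟨v, ⟨h1, mem_centralizer_singleton_iff.2 h2⟩, e⟩⟩
    have hconjc : h * g⁻¹ * (g * ρ c * g⁻¹) * (h * g⁻¹)⁻¹ = ρ 16 := by rw [← hha]; group
    have hgiz : g⁻¹ * ρ 16 * g = ρ 16 := by
      rw [mul_assoc, ← hgz, inv_mul_cancel_left]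
    have hconjz : h * g⁻¹ * ρ 16 * (h * g⁻¹)⁻¹ = ρ c := by
      rw [← hhz, show h * g⁻¹ * ρ 16 * (h * g⁻¹)⁻¹ = h * (g⁻¹ * ρ 16 * g) * h⁻¹ by group, hgiz]
    have hD16 : D ≤ Loc.core (ρ 16) := by
      refine F.le_core_of_inverted hN (fun d hd => ?_) ?_ hcq ((F.sq_one (four_codes.1 c hcz).2.1).2
        (four_codes.1 c hcz).2.2.2.1) (fun d hd => ?_) fun d hd hdc => ?_
      · obtain ⟨v, -, hv, rfl⟩ := hmem.1 hd
        rw [← hconjc]
        exact conj_comm hv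
      · rw [hD, card_map_of_injective (MulAut.conj (h * g⁻¹)).injective]
        exact hodd.of_dvd_nat (card_dvd_of_le inf_le_left)
      · obtain ⟨v, hvW, hv, rfl⟩ := hmem.1 hd
        have hzu : ρ 16 * (g * ρ c * g⁻¹) = g * ρ c * g⁻¹ * ρ 16 := by
          have := conj_comm (g := g) hza
          rwa [hgz'] at this
        refine hmem.2 ⟨ρ 16 * v * (ρ 16)⁻¹, (mem_normalizer_iff.1 (hSM F.z_mem) v).1 hvW, ?_, ?_⟩
        · have := conj_comm (g := ρ 16) hv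
          rwa [show ρ 16 * (g * ρ c * g⁻¹) * (ρ 16)⁻¹ = g * ρ c * g⁻¹ by rw [hzu, mul_inv_cancel_right]] at this
        · rw [← hconjz]; group
      · obtain ⟨v, hvW, hv, rfl⟩ := hmem.1 hd
        rw [← hconjz] at hdc
        have hvz : v ∈ Loc.core (ρ 16) :=
          hfix _ (mem_sub_of_mem four_codes.2.2.2.1) (Involutions.Basic.ne_one F.order_z)
            ⟨hvW, mem_centralizer_singleton_iff.2 (comm_of_conj hdc)⟩
        have h1 : h * g⁻¹ * v * (h * g⁻¹)⁻¹ ∈ Loc.core (ρ c) := hconjz ▸ Loc.core_map_conj hvz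
        refine F.balanced hN hone (F.orderOf_two (four_codes.1 c hcz).2.1 (four_codes.1 c hcz).2.2.2.1
          (by rcases hc with rfl | rfl <;> norm_num)) F.order_z hza.symm ⟨h1, mem_centralizer_singleton_iff.2 ?_⟩
        rw [← hconjc]
        exact conj_comm hv
    have hfin : g⁻¹ * w * g ∈ Loc.core (ρ c) := by
      have h1 := Loc.core_map_conj (g := h⁻¹) (hD16 (hmem.2 ⟨w, hw.1, hwu, rfl⟩))
      rw [show h⁻¹ * ρ 16 * h⁻¹⁻¹ = ρ c by rw [← hha]; group] at h1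
      rwa [show h⁻¹ * (h * g⁻¹ * w * (h * g⁻¹)⁻¹) * h⁻¹⁻¹ = g⁻¹ * w * g by group] at h1
    exact F.four_le_wFour ha ha1 hfin
  have heq := eq_of_le_of_card_ge hle (by rw [hW', card_map_of_injective (MulAut.conj g).injective])
  refine mem_normalizer_iff.2 fun x => ⟨fun hx => heq.ge ⟨x, hx, rfl⟩, fun hx => ?_⟩
  rw [heq] at hx
  obtain ⟨y, hy, e⟩ := hx
  exact (MulAut.conj g).injective e ▸ hy

/-- Every involution of the Sylow subgroup is conjugate to `z` inside the normalizer. -/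
theorem exists_conj_S (h2 : ∀ H : Subgroup G, H.index ≠ 2) {t : G} (ht : t ∈ (S : Subgroup G))
    (ht2 : orderOf t = 2) :
    ∃ n ∈ normalizer (wFour ρ : Set G), n * ρ 16 * n⁻¹ = t := by
  set M := normalizer (wFour ρ : Set G)
  have hSM := F.S_le_norm
  obtain ⟨i, hi, rfl⟩ := F.surj t ht
  have hi2 : mul i i = 0 := (F.sq_one hi).1 (Involutions.Basic.inv_sq_one ht2)
  have hi0 : i ≠ 0 := fun e => by rw [e, F.zero, orderOf_one] at ht2; omega
  have hx : ∀ a, a = 15 ∨ a = 31 → ∃ n ∈ M, n * ρ 16 * n⁻¹ = ρ a := fun a ha => by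
    obtain ⟨h, hh, -, hhz⟩ := F.exists_exchange hN hone ha
    exact ⟨h, hh, hhz⟩
  have hA : ∀ a ∈ aL, a ≠ 0 → ∃ n ∈ M, n * ρ 16 * n⁻¹ = ρ a := fun a ha ha0 => by
    obtain ⟨n, hn, e⟩ := F.exists_normalizer_conj ha
      (hone (ρ a) (F.orderOf_two (aL_sub a ha).2.1 (aL_sub a ha).2.2.1 ha0)).symm
    exact ⟨n, F.normA_le hN hone hn, e⟩
  have hcj : ∀ s ∈ sL, ∀ a ∈ sL, (∃ n ∈ M, n * ρ 16 * n⁻¹ = ρ a) → ∃ n ∈ M, n * ρ 16 * n⁻¹ = ρ (cj s a) := by
    rintro s hs a ha ⟨n, hn, e⟩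
    refine ⟨ρ s * n, mul_mem (hSM (F.mem s hs)) hn, ?_⟩
    rw [F.cj_eq hs ha, ← e]
    group
  rcases invs_ok i hi hi2 with h | h | ⟨h, -⟩ | ⟨h, hz⟩
  · exact hA i (zL_in_aL.1 i h) hi0
  · obtain ⟨s, hs, rfl⟩ := yL_orbit i h
    refine hcj s hs 1 one_facts.1 ?_
    obtain ⟨k, hk, hk'⟩ := F.exists_y_to_x h2
    have hkM := F.centralizer_le_norm hN hone hk
    rcases hk' with e | e
    · obtain ⟨n, hn, e'⟩ := hx 15 (Or.inl rfl)
      exact ⟨k⁻¹ * n, mul_mem (inv_mem hkM) hn, by rw [show k⁻¹ * n * ρ 16 * (k⁻¹ * n)⁻¹ = k⁻¹ * (n * ρ 16 * n⁻¹) * k by group, e', ← e]; group⟩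
    · obtain ⟨n, hn, e'⟩ := hx 31 (Or.inr rfl)
      exact ⟨k⁻¹ * n, mul_mem (inv_mem hkM) hn, by rw [show k⁻¹ * n * ρ 16 * (k⁻¹ * n)⁻¹ = k⁻¹ * (n * ρ 16 * n⁻¹) * k by group, e', ← e]; group⟩
  · exact hA i h hi0
  · obtain ⟨h1, -⟩ := bL_to_aL i h hz
    have hb := (bL_sub i h).2.1
    have h10 : cj 1 i ≠ 0 := fun e => by
      have := F.cj_eq one_facts.1 hb
      rw [e, F.zero] at this
      exact hi0 ((F.eq_one hb).1 (conj_eq_one_iff.1 this.symm))
    obtain ⟨n, hn, e⟩ := hA _ h1 h10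
    refine ⟨(ρ 1)⁻¹ * n, mul_mem (inv_mem (hSM (F.mem 1 one_facts.1))) hn, ?_⟩
    rw [show (ρ 1)⁻¹ * n * ρ 16 * ((ρ 1)⁻¹ * n)⁻¹ = (ρ 1)⁻¹ * (n * ρ 16 * n⁻¹) * ρ 1 by group, e,
      F.cj_eq one_facts.1 hb]
    group

end Syl

end Cfsg.Agent.J2Type
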