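import Mathlib
import Cfsg.Agent.S0223
import Cfsg.Agent.S1225
import Cfsg.Agent.Lib.J2Type.OneClass.Functor
import Cfsg.Agent.Lib.LargeExtra.Centralizer
import Cfsg.Agent.Lib.J3Uniq.Odd

/-!
With one class of involutions the core of the centralizer of the central involution is trivial: otherwise
the normalizer of the completion is strongly embedded, its quotient is the third Janko group, and an odd
subgroup would be transitive on the involutions of that group.
-/

set_option autoImplicit false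
set_option linter.style.haveILetI false
set_option linter.unusedSectionVars false

namespace Cfsg.Agent.J2Type

open Subgroup
open Cfsg.Agent.J2Uniq (mul inv cj)

universe u

variable {G : Type u} [Group G] [Finite G]

theorem gen_codes : ∀ n ∈ [1, 2, 4, 8, 16, 416], n ∈ sL ∧ mul n n = 0 ∧ n ≠ 0 := by decide +kernel

namespace Syl

variable {S : Sylow 2 G} {ρ : ℕ → G} (F : Syl (S : Subgroup G) ρ) (hN : QNorm ρ) (hone : OneClassAt ρ)

include F hN hone

/-- The normalizer of a nontrivial join is strongly embedded. -/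
theorem stronglyEmbedded [IsSimpleGroup G] (hW : wFour ρ ≠ ⊥) :
    Cfsg.IsStronglyEmbedded (normalizer (wFour ρ : Set G)) ∧
      ∀ t ∈ normalizer (wFour ρ : Set G), orderOf t = 2 →
        ∃ n ∈ normalizer (wFour ρ : Set G), n * ρ 16 * n⁻¹ = t := by
  classical
  haveI : Fact (Nat.Prime 2) := ⟨Nat.prime_two⟩
  set M := normalizer (wFour ρ : Set G) with hMdef
  have hodd := (F.wFour_facts hN hone).1
  have hSM : (S : Subgroup G) ≤ M := F.S_le_norm
  have hM : M ≠ ⊤ := by
    intro e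
    haveI := normalizer_eq_top_iff.1 e
    rcases IsSimpleGroup.eq_bot_or_eq_top_of_normal (wFour ρ) inferInstance with h | h
    · exact hW h
    · have := hodd.of_dvd_nat (orderOf_dvd_natCard (⟨ρ 16, h ▸ mem_top _⟩ : wFour ρ))
      rw [← Subgroup.orderOf_coe, F.order_z] at this
      exact absurd this (by decide)
  have hfus : ∀ t ∈ M, orderOf t = 2 → ∃ n ∈ M, n * ρ 16 * n⁻¹ = t := by
    intro t ht ht2
    obtain ⟨k, hk⟩ := exists_conj_le (S.subtype hSM)
      (IsPGroup.of_card (G := zpowers (⟨t, ht⟩ : M)) (p := 2) (n := 1)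
        (by rw [Nat.card_zpowers, ← Subgroup.orderOf_coe, ht2, pow_one]))
    have hS : (k : G) * t * (k : G)⁻¹ ∈ (S : Subgroup G) :=
      mem_subgroupOf.1 (hk ⟨⟨t, ht⟩, mem_zpowers _, rfl⟩)
    obtain ⟨n, hn, e⟩ := F.exists_conj_S hN hone (index_ne_two_of_simple F) hS
      (by rw [Involutions.Basic.orderOf_conj, ht2])
    refine ⟨(k : G)⁻¹ * n, mul_mem (inv_mem k.2) hn, ?_⟩
    rw [show (k : G)⁻¹ * n * ρ 16 * ((k : G)⁻¹ * n)⁻¹ = (k : G)⁻¹ * (n * ρ 16 * n⁻¹) * k by group, e]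
    group
  refine ⟨(Cfsg.Agent.S0223.result M hM ?_).2 ⟨fun t ht ht2 c hc => ?_, fun t ht s hs ht2 hs2 _ => ?_⟩, hfus⟩
  · rw [even_iff_two_dvd, ← F.order_z]
    exact M.orderOf_dvd_natCard (hSM F.z_mem)
  · obtain ⟨n, hn, e⟩ := hfus t ht ht2
    have hc' : n⁻¹ * c * n ∈ M := by
      refine F.centralizer_le_norm hN hone (mem_centralizer_singleton_iff.2 (comm_of_conj (g := n) ?_))
      rw [e, show n * (n⁻¹ * c * n) * n⁻¹ = c by group]
      exact mem_centralizer_singleton_iff.1 hc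
    have := mul_mem (mul_mem hn hc') (inv_mem hn)
    rwa [show n * (n⁻¹ * c * n) * n⁻¹ = c by group] at this
  · obtain ⟨n, hn, e⟩ := hfus t ht ht2
    obtain ⟨m, hm, e'⟩ := hfus s hs hs2
    refine ⟨m * n⁻¹, mul_mem hm (inv_mem hn), ?_⟩
    rw [← e, ← e']
    group

/-- With one class of involutions the core of the centralizer of the central involution is trivial. -/
theorem oddCore_bot_one_class [IsSimpleGroup G] :
    Cfsg.oddCore ↥(centralizer ({ρ 16} : Set G)) = ⊥ := by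
  classical
  haveI : Fact (Nat.Prime 2) := ⟨Nat.prime_two⟩
  by_contra hne
  have hW : wFour ρ ≠ ⊥ := fun e => hne (by
    have : Loc.core (ρ 16) ≤ wFour ρ := le_sup_left.trans le_sup_left
    rw [e, le_bot_iff, Loc.core, map_eq_bot_iff_of_injective _ (centralizer ({ρ 16} : Set G)).subtype_injective] at this
    exact this)
  obtain ⟨hSE, hfus⟩ := F.stronglyEmbedded hN hone hW
  obtain ⟨hWodd, hZn, hWfix⟩ := F.wFour_facts hN hone
  have hCM := F.centralizer_le_norm hN hone
  have hSM := F.S_le_norm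
  set M := normalizer (wFour ρ : Set G) with hMdef
  -- the odd transitive subgroup
  obtain ⟨u, hu, huM⟩ : ∃ u, orderOf u = 2 ∧ u ∉ M := by
    by_contra hno
    push Not at hno
    have hle : Subgroup.normalClosure ({ρ 16} : Set G) ≤ M := by
      refine (closure_le _).2 fun x hx => ?_
      obtain ⟨y, hy, hc⟩ := Group.mem_conjugatesOfSet_iff.1 hx
      rw [Set.mem_singleton_iff] at hy
      obtain ⟨g, rfl⟩ := isConj_iff.1 (hy ▸ hc)
      exact hno _ (by rw [Involutions.Basic.orderOf_conj, F.order_z])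
    rcases IsSimpleGroup.eq_bot_or_eq_top_of_normal (Subgroup.normalClosure ({ρ 16} : Set G)) inferInstance with h | h
    · exact Involutions.Basic.ne_one F.order_z
        (mem_bot.1 (h ▸ subset_normalClosure (Set.mem_singleton (ρ 16))))
    · exact hSE.1 (eq_top_iff.2 (h ▸ hle))
  set D := M ⊓ M.map (MulAut.conj u).toMonoidHom with hD
  have hDodd : Odd (Nat.card D) := hSE.2.2 u huM
  have hDtrans : ∀ t ∈ M, orderOf t = 2 → ∃ d ∈ D, d * ρ 16 * d⁻¹ = t := fun t ht ht2 =>
    (Cfsg.Agent.S1225.result M hSE u hu huM (ρ 16) t F.order_z (hSM F.z_mem) ht2 ht).1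
  -- the quotient
  set W' := (wFour ρ).subgroupOf M with hW'
  haveI : W'.Normal := normal_in_normalizer
  set f := QuotientGroup.mk' W' with hf
  have hker : ∀ {m : M}, f m = 1 ↔ (m : G) ∈ wFour ρ := fun {m} => by
    rw [hf, QuotientGroup.mk'_apply, QuotientGroup.eq_one_iff]; exact mem_subgroupOf
  have hinj : ∀ m : M, (m : G) ∈ (S : Subgroup G) → f m = 1 → m = 1 := fun m hm h1 =>
    Subtype.ext (Loc.inf_eq_bot S.isPGroup' hWodd hm (hker.1 h1))
  set zb := f ⟨ρ 16, hSM F.z_mem⟩ with hzb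
  have hzb2 : orderOf zb = 2 := by
    refine orderOf_eq_prime ?_ fun e => ?_
    · rw [hzb, ← map_pow]
      refine hker.2 ?_
      rw [show (((⟨ρ 16, hSM F.z_mem⟩ : M) ^ 2 : M) : G) = ρ 16 ^ 2 from rfl, pow_two,
        Involutions.Basic.inv_sq_one F.order_z]
      exact one_mem _
    · exact Involutions.Basic.ne_one F.order_z (congrArg Subtype.val (hinj _ F.z_mem e))
  set SX := (S.subtype hSM).mapSurjective (f := f) (QuotientGroup.mk'_surjective _) with hSX
  have hSXmem : ∀ x : M ⧸ W', x ∈ (SX : Subgroup (M ⧸ W')) ↔ ∃ s : M, (s : G) ∈ (S : Subgroup G) ∧ f s = x :=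
    fun x => ⟨fun ⟨s, hs, e⟩ => ⟨s, mem_subgroupOf.1 hs, e⟩, fun ⟨s, hs, e⟩ => ⟨s, mem_subgroupOf.2 hs, e⟩⟩
  have hlift : ∀ x : M ⧸ W', orderOf x = 2 → x ∈ (SX : Subgroup (M ⧸ W')) →
      ∃ s : M, (s : G) ∈ (S : Subgroup G) ∧ orderOf (s : G) = 2 ∧ f s = x := by
    intro x hx hxS
    obtain ⟨s, hs, e⟩ := (hSXmem x).1 hxS
    refine ⟨s, hs, orderOf_eq_prime ?_ fun h => ?_, e⟩
    · refine congrArg Subtype.val (hinj (s ^ 2) ((S : Subgroup G).pow_mem hs 2) ?_)
      rw [map_pow, e, ← hx, pow_orderOf_eq_one]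
    · rw [show s = 1 from Subtype.ext h, map_one] at e
      exact Involutions.Basic.ne_one hx e.symm
  have hclass : ∀ x : M ⧸ W', orderOf x = 2 → IsConj zb x := by
    intro x hx
    obtain ⟨k, hk⟩ := exists_conj_le SX (IsPGroup.of_card (G := zpowers x) (p := 2) (n := 1)
      (by rw [Nat.card_zpowers, hx, pow_one]))
    obtain ⟨s, hs, hs2, e⟩ := hlift (k * x * k⁻¹) (by rw [Involutions.Basic.orderOf_conj, hx])
      (hk ⟨x, mem_zpowers x, rfl⟩)
    obtain ⟨n, hn, e'⟩ := hfus _ s.2 hs2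
    refine (isConj_iff.2 ⟨f ⟨n, hn⟩, ?_⟩).trans (isConj_iff.2 ⟨k, rfl⟩).symm
    rw [hzb, ← map_inv, ← map_mul, ← map_mul, ← e]
    exact congrArg f (Subtype.ext e')
  -- the centralizer
  set C := centralizer ({ρ 16} : Set G) with hCdef
  set CX := centralizer ({zb} : Set (M ⧸ W')) with hCX
  set ψ := f.comp (Subgroup.inclusion hCM) with hψ
  have hrange : ψ.range = CX := by
    ext x
    constructor
    · rintro ⟨c, rfl⟩
      refine mem_centralizer_singleton_iff.2 ?_
      rw [hψ, MonoidHom.comp_apply, hzb, ← map_mul, ← map_mul]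
      exact congrArg f (Subtype.ext (mem_centralizer_singleton_iff.1 c.2))
    · intro hx
      obtain ⟨m, rfl⟩ := QuotientGroup.mk'_surjective W' x
      rw [mem_centralizer_singleton_iff] at hx
      set y := (m : G) * ρ 16 * (m : G)⁻¹ with hy
      have hy2 : orderOf y = 2 := by rw [hy, Involutions.Basic.orderOf_conj, F.order_z]
      have hyW : y * ρ 16 ∈ wFour ρ := by
        refine (hker (m := m * ⟨ρ 16, hSM F.z_mem⟩ * m⁻¹ * ⟨ρ 16, hSM F.z_mem⟩)).1 ?_
        rw [map_mul, map_mul, map_mul, map_inv, hx, mul_inv_cancel_right, ← map_mul,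
          show (⟨ρ 16, hSM F.z_mem⟩ : M) * ⟨ρ 16, hSM F.z_mem⟩ = 1 from
            Subtype.ext (Involutions.Basic.inv_sq_one F.order_z), map_one]
      obtain ⟨d, hd, hde⟩ := Involutions.Basic.exists_conj_of_odd hy2 F.order_z (Loc.odd_orderOf hWodd hyW)
      have hdW : d ∈ wFour ρ := zpowers_le.2 hyW hd
      have hdm : d * (m : G) ∈ C := by
        refine mem_centralizer_singleton_iff.2 ?_
        rw [hy, show d * ((m : G) * ρ 16 * (m : G)⁻¹) * d⁻¹ = d * m * ρ 16 * (d * m)⁻¹ by group] at hde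
        exact mul_inv_eq_iff_eq_mul.1 hde
      refine ⟨⟨d * m, hdm⟩, ?_⟩
      rw [hψ, MonoidHom.comp_apply,
        show Subgroup.inclusion hCM ⟨d * m, hdm⟩ = ⟨d, le_normalizer hdW⟩ * m from rfl, map_mul,
        (hker (m := ⟨d, le_normalizer hdW⟩)).2 hdW, one_mul]
  have hψker : ψ.ker = Cfsg.oddCore ↥C := by
    ext c
    rw [MonoidHom.mem_ker, hψ, MonoidHom.comp_apply, hker, ← QuotientGroup.eq_one_iff (N := Cfsg.oddCore ↥C),
      ← QuotientGroup.mk'_apply, mk_eq_one_iff c]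
    exact ⟨fun h => hWfix _ (F.four_ne four_codes.2.2.2.1 (by norm_num)).1 (Involutions.Basic.ne_one F.order_z)
      ⟨h, c.2⟩, fun h => (le_sup_left.trans le_sup_left : Loc.core (ρ 16) ≤ wFour ρ) h⟩
  let e0 : ↥C ⧸ Cfsg.oddCore ↥C ≃* ↥CX := (QuotientGroup.quotientMulEquivOfEq hψker.symm).trans
    ((QuotientGroup.quotientKerEquivRange ψ).trans (MulEquiv.subgroupCongr hrange))
  have he0 : ∀ c : ↥C, ((e0 (QuotientGroup.mk' _ c) : ↥CX) : M ⧸ W') = f ⟨c, hCM c.2⟩ := fun c => rfl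
  -- data of the extraspecial group
  haveI hQn : (qImage ρ).Normal := hN
  obtain ⟨π, hext, hcard, hkerπ, hsurj⟩ : ∃ π : ↥C ⧸ Cfsg.oddCore ↥C →* alternatingGroup (Fin 5),
      Cfsg.IsExtraspecial 2 ↥(qImage ρ) ∧ Nat.card (qImage ρ) = 32 ∧ π.ker = qImage ρ ∧ Function.Surjective π := by
    obtain ⟨S₂, σ, F₂, hσ, hzc, hsub⟩ := F.exists_image (QuotientGroup.mk' (Cfsg.oddCore ↥C))
      (QuotientGroup.mk'_surjective _) (by rw [QuotientGroup.ker_mk']; exact Cfsg.Agent.Cores.oddCore_odd)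
    have hsub' : sub σ qL = qImage ρ := hsub
    haveI : (sub σ qL).Normal := hsub'.symm ▸ hQn
    obtain ⟨h, hh, hh'⟩ := F.exists_y_to_x (index_ne_two_of_simple F)
    obtain ⟨π, hpre, -⟩ := F₂.exists_pre (Cfsg.Agent.Cores.pPrimeCore_quotient_self 2) hzc
      (fusion_image F _ hσ ⟨h, mem_centralizer_singleton_iff.1 hh, hh'⟩)
    exact ⟨π, hsub' ▸ hpre.ext, hsub' ▸ hpre.card32, hpre.ker.trans hsub', hpre.surj⟩
  -- the quotient has no odd core
  have hOX : ∀ N : Subgroup (M ⧸ W'), N.Normal → Odd (Nat.card N) → N = ⊥ := by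
    intro N hNn hNodd
    set P := (N.comap f).map M.subtype with hP
    have hPM : P ≤ M := map_subtype_le _
    have hPn : ∀ m ∈ M, ∀ p ∈ P, m * p * m⁻¹ ∈ P := by
      rintro m hm _ ⟨p, hp, rfl⟩
      exact ⟨⟨m, hm⟩ * p * ⟨m, hm⟩⁻¹, (hNn.comap f).conj_mem p hp _, rfl⟩
    have hPodd : Odd (Nat.card P) := by
      refine Nat.not_even_iff_odd.1 fun he => ?_
      obtain ⟨⟨_, p, hp, rfl⟩, hpo⟩ := exists_prime_orderOf_dvd_card' (G := P) 2 (even_iff_two_dvd.1 he)
      rw [← Subgroup.orderOf_coe] at hpo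
      have hp2 : orderOf p = 2 := by rw [← Subgroup.orderOf_coe]; exact hpo
      have h1 : f p = 1 := by
        rcases (Nat.dvd_prime Nat.prime_two).1 (hp2 ▸ orderOf_map_dvd f p) with h | h
        · exact orderOf_eq_one_iff.1 h
        · exact absurd (h ▸ Loc.odd_orderOf hNodd hp) (by decide)
      have := Loc.odd_orderOf hWodd (hker.1 h1)
      rw [Subgroup.orderOf_coe, hp2] at this
      exact absurd this (by decide)
    have hcz : P ⊓ C ≤ Loc.core (ρ 16) := Loc.le_core inf_le_right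
      (hPodd.of_dvd_nat (card_dvd_of_le inf_le_left)) fun c hc x hx =>
        ⟨hPn c (hCM (mem_centralizer_singleton_iff.2 hc)) x hx.1,
          C.mul_mem (C.mul_mem (mem_centralizer_singleton_iff.2 hc) hx.2)
            (C.inv_mem (mem_centralizer_singleton_iff.2 hc))⟩
    haveI := F.four_elem.1
    have hPW : P ≤ wFour ρ := by
      refine (Coprime.fixedGen_eq F.four_not_cyclic (fun a ha => ?_) ?_).ge.trans (iSup₂_le fun a ha => ?_)
      · have haM : a ∈ M := hZn ha
        refine mem_normalizer_iff.2 fun x => ⟨hPn a haM x, fun hx => ?_⟩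
        have := hPn a⁻¹ (inv_mem haM) _ hx
        rwa [show a⁻¹ * (a * x * a⁻¹) * a⁻¹⁻¹ = x by group] at this
      · refine Nat.Coprime.coprime_dvd_left (k := 2 ^ 2) ?_ ((Nat.coprime_two_left.2 hPodd).pow_left 2)
        rw [F.card_sub four_codes.2.1 (fun a ha => (four_codes.1 a ha).2.1) (fun a ha => (four_codes.1 a ha).2.2.1)
          (fun a ha b hb => ((four_codes.1 a ha).2.2.2.2 b hb).1) four_codes.2.2.2.2.2.1]
        exact dvd_of_eq rfl
      · obtain ⟨haZ, ha1⟩ := ha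
        obtain ⟨n, hn, e⟩ := hfus a (hZn haZ) (orderOf_eq_prime (F.four_elem.2 a haZ) ha1)
        intro x hx
        have h1 : n⁻¹ * x * n ∈ Loc.core (ρ 16) := by
          refine hcz ⟨?_, mem_centralizer_singleton_iff.2 (comm_of_conj (g := n) ?_)⟩
          · have := hPn n⁻¹ (inv_mem hn) x hx.1
            rwa [inv_inv] at this
          · rw [e, show n * (n⁻¹ * x * n) * n⁻¹ = x by group]
            exact mem_centralizer_singleton_iff.1 hx.2
        have h2 := Loc.core_map_conj (g := n) h1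
        rw [e, show n * (n⁻¹ * x * n) * n⁻¹ = x by group] at h2
        exact F.four_le_wFour haZ ha1 h2
    refine (Subgroup.eq_bot_iff_forall _).2 fun x hx => ?_
    obtain ⟨m, rfl⟩ := QuotientGroup.mk'_surjective W' x
    exact hker.2 (hPW ⟨m, hx, rfl⟩)
  -- simplicity
  haveI : Nontrivial (M ⧸ W') := ⟨⟨zb, 1, Involutions.Basic.ne_one hzb2⟩⟩
  haveI : IsSimpleGroup (M ⧸ W') := by
    refine ⟨fun N hNn => or_iff_not_imp_left.2 fun hN1 => ?_⟩
    haveI := hNn
    have hev : Even (Nat.card N) := Nat.not_odd_iff_even.1 fun h => hN1 (hOX N hNn h)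
    obtain ⟨⟨y, hy⟩, hyo⟩ := exists_prime_orderOf_dvd_card' (G := N) 2 (even_iff_two_dvd.1 hev)
    rw [Subgroup.orderOf_mk] at hyo
    have hzN : zb ∈ N := by
      obtain ⟨g, e⟩ := isConj_iff.1 (hclass y hyo)
      have := hNn.conj_mem y hy g⁻¹
      rwa [← e, show g⁻¹ * (g * zb * g⁻¹) * g⁻¹⁻¹ = zb by group] at this
    have hinv : ∀ x : M ⧸ W', orderOf x = 2 → x ∈ N := fun x hx => by
      obtain ⟨g, e⟩ := isConj_iff.1 (hclass x hx)
      exact e ▸ hNn.conj_mem zb hzN g
    set K := (N.subgroupOf CX).comap e0.toMonoidHom with hK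
    haveI : K.Normal := (hNn.subgroupOf _).comap _
    have hgen : ∀ n ∈ [1, 2, 4, 8, 16, 416], ∀ h : ρ n ∈ C, QuotientGroup.mk' _ (⟨ρ n, h⟩ : ↥C) ∈ K := by
      intro n hn h
      obtain ⟨hns, hn2, hn0⟩ := gen_codes n hn
      show e0 (QuotientGroup.mk' _ (⟨ρ n, h⟩ : ↥C)) ∈ N.subgroupOf CX
      rw [mem_subgroupOf, he0]
      refine hinv _ (orderOf_eq_prime ?_ fun e => ?_)
      · rw [← map_pow]
        refine hker.2 ?_
        rw [show (((⟨ρ n, hCM h⟩ : M) ^ 2 : M) : G) = ρ n ^ 2 from rfl, pow_two, (F.sq_one hns).2 hn2]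
        exact one_mem _
      · exact Involutions.Basic.ne_one (F.orderOf_two hns hn2 hn0) (congrArg Subtype.val (hinj _ (F.mem n hns) e))
    have hQK : qImage ρ ≤ K := by
      rintro _ ⟨q, hq, rfl⟩
      obtain ⟨a, ha, hae⟩ := F.mem_Q.1 (mem_subgroupOf.1 hq)
      obtain ⟨b1, b2, b3, b4, b5, hb⟩ := qL_word a ha
      set K1 := (K.comap (QuotientGroup.mk' _)).map C.subtype with hK1
      have hmem : ∀ (b : Bool) (n : ℕ), n ∈ [1, 2, 4, 8, 16, 416] →
          ρ (if b then n else 0) ∈ K1 ∧ (if b then n else 0) ∈ sL := by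
        intro b n hn
        obtain ⟨hns, -, -⟩ := gen_codes n hn
        cases b
        · exact ⟨by rw [if_neg Bool.false_ne_true, F.zero]; exact one_mem _, zero_sL⟩
        · exact ⟨⟨⟨ρ n, F.le_centralizer_z (F.mem n hns)⟩, hgen n hn _, rfl⟩, hns⟩
      obtain ⟨k1, m1⟩ := hmem b1 1 (by simp)
      obtain ⟨k2, m2⟩ := hmem b2 2 (by simp)
      obtain ⟨k3, m3⟩ := hmem b3 4 (by simp)
      obtain ⟨k4, m4⟩ := hmem b4 8 (by simp)
      obtain ⟨k5, m5⟩ := hmem b5 16 (by simp)
      have n12 := (sL_closed _ m1).2.2 _ m2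
      have n123 := (sL_closed _ n12).2.2 _ m3
      have n1234 := (sL_closed _ n123).2.2 _ m4
      have : (q : G) ∈ K1 := by
        rw [← hae, hb, F.mul_eq _ n1234 _ m5, F.mul_eq _ n123 _ m4, F.mul_eq _ n12 _ m3, F.mul_eq _ m1 _ m2]
        exact mul_mem (mul_mem (mul_mem (mul_mem k1 k2) k3) k4) k5
      obtain ⟨q', hq', e⟩ := this
      rwa [show q' = q from Subtype.ext e] at hq'
    have hKtop : K = ⊤ := by
      haveI : (K.map π).Normal := Subgroup.Normal.map inferInstance π hsurj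
      haveI : IsSimpleGroup (alternatingGroup (Fin 5)) := alternatingGroup.isSimpleGroup (by simp)
      rcases IsSimpleGroup.eq_bot_or_eq_top_of_normal (K.map π) inferInstance with h | h
      · exfalso
        rw [Subgroup.map_eq_bot_iff, hkerπ] at h
        have h416 := out_code.1
        obtain ⟨w, hw, e⟩ := h (hgen 416 (by simp) (F.le_centralizer_z (F.mem _ h416)))
        obtain ⟨j, hj, hje⟩ := F.mem_Q.1 (mem_subgroupOf.1 hw)
        rw [QuotientGroup.mk'_apply, QuotientGroup.mk'_apply, QuotientGroup.eq] at e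
        have e' : (w : G)⁻¹ * ρ 416 ∈ Loc.core (ρ 16) := ⟨_, e, rfl⟩
        have hjs := (qL_facts.1 j hj).1
        have h1 := Loc.inf_eq_bot S.isPGroup' (Loc.core_odd _)
          ((S : Subgroup G).mul_mem ((S : Subgroup G).inv_mem (hje ▸ F.mem j hjs)) (F.mem _ h416)) e'
        rw [← hje, inv_mul_eq_one] at h1
        exact out_code.2.2 (F.inj j hjs 416 h416 h1 ▸ hj)
      · refine eq_top_iff.2 fun x _ => ?_
        obtain ⟨k, hk, e⟩ := (h.symm ▸ mem_top (π x) : π x ∈ K.map π)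
        have : k⁻¹ * x ∈ π.ker := by rw [MonoidHom.mem_ker, map_mul, map_inv, e, inv_mul_cancel]
        have h1 := K.mul_mem hk (hQK (hkerπ ▸ this))
        rwa [mul_inv_cancel_left] at h1
    have hCN : CX ≤ N := fun x hx => by
      have h := hKtop.ge (mem_top (e0.symm ⟨x, hx⟩))
      rw [hK, mem_comap, MulEquiv.coe_toMonoidHom, MulEquiv.apply_symm_apply] at h
      exact mem_subgroupOf.1 h
    have hSC : (SX : Subgroup (M ⧸ W')) ≤ CX := by
      intro x hx
      obtain ⟨s, hs, rfl⟩ := (hSXmem x).1 hx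
      refine mem_centralizer_singleton_iff.2 ?_
      rw [hzb, ← map_mul, ← map_mul]
      exact congrArg f (Subtype.ext (F.z_comm hs))
    have hNC : normalizer ((SX : Subgroup (M ⧸ W')) : Set (M ⧸ W')) ≤ CX := by
      intro n hn
      set y := n * zb * n⁻¹ with hy
      have hzS : zb ∈ (SX : Subgroup (M ⧸ W')) := (hSXmem _).2 ⟨_, F.z_mem, rfl⟩
      obtain ⟨s, hs, hs2, e⟩ := hlift y (by rw [hy, Involutions.Basic.orderOf_conj, hzb2])
        ((mem_normalizer_iff.1 hn zb).1 hzS)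
      have hsz : (s : G) = ρ 16 := by
        refine F.eq_z hs2 hs fun t ht => ?_
        have hyc : f ⟨t, hSM ht⟩ * y = y * f ⟨t, hSM ht⟩ := by
          have htS : n⁻¹ * f ⟨t, hSM ht⟩ * n ∈ (SX : Subgroup (M ⧸ W')) := by
            have := (mem_normalizer_iff.1 (inv_mem hn) _).1 ((hSXmem _).2 ⟨⟨t, hSM ht⟩, ht, rfl⟩)
            rwa [inv_inv] at this
          have := conj_comm (g := n) (mem_centralizer_singleton_iff.1 (hSC htS))
          rwa [show n * (n⁻¹ * f ⟨t, hSM ht⟩ * n) * n⁻¹ = f ⟨t, hSM ht⟩ by group] at this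
        rw [← e, ← map_mul, ← map_mul] at hyc
        have h1 := congrArg Subtype.val (hinj ((s * ⟨t, hSM ht⟩)⁻¹ * (⟨t, hSM ht⟩ * s))
          ((S : Subgroup G).mul_mem ((S : Subgroup G).inv_mem ((S : Subgroup G).mul_mem hs ht))
            ((S : Subgroup G).mul_mem ht hs)) (by rw [map_mul, map_inv, hyc, inv_mul_cancel]))
        exact (inv_mul_eq_one.1 h1).symm
      refine mem_centralizer_singleton_iff.2 (mul_inv_eq_iff_eq_mul.1 ?_)
      rw [← hy, ← e, hzb]
      exact congrArg f (Subtype.ext hsz)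
    have hF : normalizer ((SX : Subgroup (M ⧸ W')) : Set (M ⧸ W')) ⊔ N = ⊤ := by
      have h := Sylow.normalizer_sup_eq_top (N := N) (SX.subtype (hSC.trans hCN))
      rwa [Sylow.coe_subtype, map_subgroupOf_eq_of_le (hSC.trans hCN)] at h
    rw [eq_top_iff, ← hF]
    exact sup_le (hNC.trans hCN) le_rfl
  -- identification
  set Q' := (qImage ρ).map e0.toMonoidHom with hQ'
  haveI : Q'.Normal := Subgroup.Normal.map hQn _ e0.surjective
  have hker' : (π.comp e0.symm.toMonoidHom).ker = Q' := by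
    ext x
    rw [MonoidHom.mem_ker, MonoidHom.comp_apply, ← MonoidHom.mem_ker, hkerπ, hQ', mem_map_equiv]
    rfl
  let e5 : ↥CX ⧸ Q' ≃* alternatingGroup (Fin 5) := (QuotientGroup.quotientMulEquivOfEq hker'.symm).trans
    (QuotientGroup.quotientKerEquivOfSurjective _ (hsurj.comp e0.symm.surjective))
  have hext' : Cfsg.IsExtraspecial 2 ↥Q' :=
    LargeExtra.isExtraspecial_of_equiv hext ((qImage ρ).equivMapOfInjective _ e0.injective)
  have hcard' : Nat.card Q' = 32 := by rw [hQ', card_map_of_injective (K := qImage ρ) e0.injective, hcard]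
  obtain ⟨K, iK, iKf, ω, hK, hω, ⟨j⟩⟩ := J3Glue.main zb hzb2 Q' hext' hcard' e5 fun x y hx hy =>
    (hclass x hx).symm.trans (hclass y hy)
  have hfld := Lib.J3.Fld.of_card hK hω
  have hcX : Nat.card (M ⧸ W') = 50232960 := by rw [Nat.card_congr j.toEquiv, hfld.card_J3]
  have hcC : Nat.card ↥CX = 1920 := by
    rw [card_eq_card_quotient_mul_card_subgroup Q', hcard', Nat.card_congr e5.toEquiv,
      Nat.card_eq_fintype_card]
    rfl
  -- the contradiction
  set Db := (D.subgroupOf M).map f with hDb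
  have hDbodd : Odd (Nat.card Db) := by
    refine Odd.of_dvd_nat ?_ (card_map_dvd _ _)
    rwa [Nat.card_congr (subgroupOfEquivOfLe (inf_le_left : D ≤ M)).toEquiv]
  have hsurjD : Function.Surjective fun d : Db => ((d : M ⧸ W') : (M ⧸ W') ⧸ CX) := by
    intro q
    obtain ⟨g, rfl⟩ := QuotientGroup.mk_surjective q
    obtain ⟨m, rfl⟩ := QuotientGroup.mk'_surjective W' g
    obtain ⟨d, hd, e⟩ := hDtrans ((m : G) * ρ 16 * (m : G)⁻¹)
      (M.mul_mem (M.mul_mem m.2 (hSM F.z_mem)) (M.inv_mem m.2))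
      (by rw [Involutions.Basic.orderOf_conj, F.order_z])
    refine ⟨⟨f ⟨d, hd.1⟩, ⟨d, hd.1⟩, hd, rfl⟩, QuotientGroup.eq.2 ?_⟩
    rw [hCX]
    refine mem_centralizer_singleton_iff.2 ?_
    rw [← map_inv, ← map_mul, hzb, ← map_mul, ← map_mul]
    refine congrArg f (Subtype.ext ?_)
    show d⁻¹ * (m : G) * ρ 16 = ρ 16 * (d⁻¹ * (m : G))
    calc d⁻¹ * (m : G) * ρ 16 = d⁻¹ * ((m : G) * ρ 16 * (m : G)⁻¹) * m := by group
      _ = d⁻¹ * (d * ρ 16 * d⁻¹) * m := by rw [e]
      _ = _ := by group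
  have h1 : Nat.card ((M ⧸ W') ⧸ CX) ≤ Nat.card Db := Nat.card_le_card_of_surjective _ hsurjD
  have h2 := J3Uniq.Odd.odd_le hK hfld (Db.map j.toMonoidHom) (by rwa [card_map_of_injective (K := Db) j.injective])
  rw [card_map_of_injective (K := Db) j.injective] at h2
  have h3 := card_eq_card_quotient_mul_card_subgroup CX
  rw [hcX, hcC] at h3
  omega

end Syl

end Cfsg.Agent.J2Type
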